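import Groth.Agent.L06.SplitQF.Tuples
import Mathlib.RingTheory.Etale.Pi
import Mathlib.RingTheory.Etale.Basic
import Mathlib.RingTheory.Idempotents

/-!
A quasi-finite algebra of finite presentation becomes finite étale up to nilpotents after a base
change that is surjective on spectra.
-/

set_option autoImplicit false

open TensorProduct

namespace Groth.L06.SplitQF

universe u

set_option linter.style.haveILetI false

variable {A B : Type u} [CommRing A] [CommRing B] [Algebra A B]

lemma mem_manyPts_zero (x : PrimeSpectrum A) : x ∈ manyPts A B 0 :=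
  ⟨x.asIdeal.ResidueField, inferInstance, inferInstance, fun i => i.elim0,
    fun i => i.elim0, Ideal.ker_algebraMap_residueField _⟩

lemma manyPts_antitone {n N : ℕ} (h : n ≤ N) : manyPts A B N ⊆ manyPts A B n := by
  induction h with
  | refl => exact subset_rfl
  | step _ ih => exact (manyPts_succ_subset _).trans ih

/-- Sections that are pointwise distinct give a surjection onto the product. -/
lemma surjective_sections {E : Type u} [CommRing E] [Algebra A E] {n : ℕ}
    (τ : Fin n → (B →ₐ[A] E))
    (hsep : ∀ i j, i ≠ j → Ideal.span (Set.range fun b => τ i b - τ j b) = ⊤) :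
    Function.Surjective (AlgHom.pi fun i =>
      Algebra.TensorProduct.lift (AlgHom.id E E) (τ i) (fun _ _ => mul_comm _ _) :
        E ⊗[A] B →ₐ[E] (Fin n → E)) := by
  classical
  let c : ∀ i, E ⊗[A] B →ₐ[E] E := fun i =>
    Algebra.TensorProduct.lift (AlgHom.id E E) (τ i) (fun _ _ => mul_comm _ _)
  have hc : ∀ i a b, c i (a ⊗ₜ[A] b) = a * τ i b := fun i a b =>
    Algebra.TensorProduct.lift_tmul _ _ _ _ _
  have hz : ∀ i j, i ≠ j → ∃ z, c i z = 1 ∧ c j z = 0 := by
    intro i j hij
    have hle : Ideal.span (Set.range fun b => τ i b - τ j b) ≤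
        (RingHom.ker (c j).toRingHom).map (c i).toRingHom := by
      rw [Ideal.span_le]
      rintro _ ⟨b, rfl⟩
      have hz0 : (1 : E) ⊗ₜ[A] b - (τ j b) ⊗ₜ[A] (1 : B) ∈ RingHom.ker (c j).toRingHom := by
        rw [RingHom.mem_ker]
        show c j (_ - _) = 0
        rw [map_sub, hc, hc, one_mul, map_one, mul_one, sub_self]
      have := Ideal.mem_map_of_mem (c i).toRingHom hz0
      rwa [show (c i).toRingHom ((1 : E) ⊗ₜ[A] b - (τ j b) ⊗ₜ[A] (1 : B)) = τ i b - τ j b by
        show c i (_ - _) = _
        rw [map_sub, hc, hc, one_mul, map_one, mul_one]] at this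
    have hsurj : Function.Surjective (c i).toRingHom := fun e => ⟨e ⊗ₜ[A] (1 : B), by
      show c i _ = e
      rw [hc, map_one, mul_one]⟩
    have h1 : (1 : E) ∈ (RingHom.ker (c j).toRingHom).map (c i).toRingHom :=
      hle (by rw [hsep i j hij]; trivial)
    obtain ⟨z, hz, hz1⟩ := (Ideal.mem_map_iff_of_surjective _ hsurj).1 h1
    exact ⟨z, hz1, hz⟩
  choose z hz1 hz0 using hz
  let δ : Fin n → E ⊗[A] B := fun i => ∏ j : {j // i ≠ j}, z i j.1 j.2
  intro f
  refine ⟨∑ i, f i • δ i, funext fun k => ?_⟩
  show c k (∑ i, f i • δ i) = f k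
  rw [map_sum, Finset.sum_eq_single k]
  · simp [δ, map_prod, hz1]
  · intro i _ hik
    simp only [δ, map_smul, map_prod, smul_eq_mul]
    rw [Finset.prod_eq_zero (Finset.mem_univ (⟨k, hik⟩ : {j // i ≠ j})) (hz0 i k hik), mul_zero]
  · simp

variable [Algebra.FinitePresentation A B] [Algebra.QuasiFinite A B]

/-- The pieces of the base change. -/
lemma exists_pieces :
    ∃ (P : Type u) (_ : Finite P) (E : P → Type u) (_ : ∀ p, CommRing (E p))
      (_ : ∀ p, Algebra A (E p)) (n : P → ℕ) (τ : ∀ p, Fin (n p) → (B →ₐ[A] E p)),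
      (∀ p i j, i ≠ j → Ideal.span (Set.range fun b => τ p i b - τ p j b) = ⊤) ∧
      (∀ x : PrimeSpectrum A, ∃ p, x ∈ Set.range (PrimeSpectrum.comap (algebraMap A (E p)))) ∧
      (∀ p (K : Type u) [Field K] [Algebra A K] (φ : E p →ₐ[A] K) (y : B →ₐ[A] K),
        ∃ i, φ.comp (τ p i) = y) := by
  classical
  obtain ⟨N, hN⟩ := exists_bound (A := A) (B := B)
  let T : ∀ m, Tuples A B m := fun m => (exists_tuples (A := A) (B := B) m).some
  let P := Σ m : ULift.{u} (Fin (N + 1)), (T m.down).ι
  have hE : ∀ p : P, ∃ (S : Type u) (_ : CommRing S) (f : (T p.1.down).R p.2 →+* S),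
      Set.range (PrimeSpectrum.comap f) = PrimeSpectrum.comap (algebraMap A ((T p.1.down).R p.2)) ⁻¹'
        (manyPts A B p.1.down \ manyPts A B (p.1.down + 1)) := fun p => by
    refine PrimeSpectrum.exists_range_eq_of_isConstructible ?_
    obtain ⟨D, hD⟩ := PrimeSpectrum.exists_constructibleSetData_iff.2
      ((isConstructible_manyPts (A := A) (B := B) (p.1.down : ℕ)).sdiff
        (isConstructible_manyPts (A := A) (B := B) ((p.1.down : ℕ) + 1)))
    rw [← hD, ← PrimeSpectrum.ConstructibleSetData.toSet_map]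
    exact PrimeSpectrum.exists_constructibleSetData_iff.1 ⟨_, rfl⟩
  choose S hS f hf using hE
  letI : ∀ p, Algebra A (S p) := fun p => ((f p).comp (algebraMap A _)).toAlgebra
  let g : ∀ p : P, (T p.1.down).R p.2 →ₐ[A] S p := fun p => AlgHom.mk (f p) fun _ => rfl
  refine ⟨P, inferInstance, S, hS, inferInstance, fun p => (p.1.down : ℕ),
    fun p i => (g p).comp ((T p.1.down).σ p.2 i), ?_, ?_, ?_⟩
  · intro p i j hij
    have := congrArg (Ideal.map (g p)) ((T p.1.down).sep p.2 i j hij)
    rw [Ideal.map_span, Ideal.map_top, ← Set.range_comp] at this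
    refine Eq.trans ?_ this
    congr 2
    funext b
    simp [map_sub]
  · intro x
    have hex : ∃ m, x ∉ manyPts A B (m + 1) :=
      ⟨N, fun h => by have := manyPts_succ_subset N h; simp [hN] at this⟩
    let m := Nat.find hex
    have hm1 : x ∈ manyPts A B m := by
      rcases Nat.eq_zero_or_pos m with h0 | h0
      · rw [h0]; exact mem_manyPts_zero x
      · have := Nat.find_min hex (Nat.sub_lt h0 one_pos)
        rw [not_not, show Nat.find hex - 1 + 1 = m from Nat.sub_add_cancel h0] at this
        exact this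
    have hm2 : x ∉ manyPts A B (m + 1) := Nat.find_spec hex
    have hmN : m < N + 1 := Nat.lt_succ_of_le (Nat.find_le fun h => by
      have := manyPts_succ_subset N h; simp [hN] at this)
    rw [manyPts_eq (T m), Set.mem_iUnion] at hm1
    obtain ⟨l, r, hr⟩ := hm1
    let p : P := ⟨⟨⟨m, hmN⟩⟩, l⟩
    have hmem : r ∈ Set.range (PrimeSpectrum.comap (f p)) := by
      rw [hf p, Set.mem_preimage, hr]
      exact ⟨by rw [manyPts_eq (T m), Set.mem_iUnion]; exact ⟨l, r, hr⟩, hm2⟩
    obtain ⟨s, hs⟩ := hmem
    exact ⟨p, s, by rw [← hr, ← hs]; rfl⟩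
  · intro p K _ _ φ y
    by_contra hc
    push Not at hc
    let s : PrimeSpectrum (S p) := ⟨RingHom.ker φ.toRingHom, RingHom.ker_isPrime _⟩
    have hx : PrimeSpectrum.comap (algebraMap A (S p)) s ∉ manyPts A B (p.1.down + 1) := by
      have := (hf p).le ⟨s, rfl⟩
      exact this.2
    refine hx ⟨K, inferInstance, inferInstance,
      Fin.cons y fun i => φ.comp ((g p).comp ((T p.1.down).σ p.2 i)), ?_, ?_⟩
    · rw [Fin.cons_injective_iff]
      refine ⟨fun ⟨i, hi⟩ => hc i hi, fun i j hij => ?_⟩
      by_contra hne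
      have h1 : Ideal.span (Set.range fun b =>
          (T p.1.down).σ p.2 i b - (T p.1.down).σ p.2 j b) ≤
            RingHom.ker (φ.comp (g p)).toRingHom := by
        rw [Ideal.span_le]
        rintro _ ⟨b, rfl⟩
        show (φ.comp (g p)) _ = 0
        rw [map_sub, sub_eq_zero]
        exact AlgHom.congr_fun hij b
      rw [(T p.1.down).sep p.2 i j hne, top_le_iff] at h1
      exact RingHom.ker_ne_top _ h1
    · show RingHom.ker (algebraMap A K) = _
      rw [← φ.comp_algebraMap, ← RingHom.comap_ker]
      rfl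

/-- The main theorem. -/
theorem exists_split : ∃ (A' : Type u) (_ : CommRing A') (_ : Algebra A A') (C : Type u) (_ : CommRing C)
    (_ : Algebra A' C),
      Function.Surjective (PrimeSpectrum.comap (algebraMap A A')) ∧
      Module.Finite A' C ∧ Algebra.Etale A' C ∧
      ∃ c : A' ⊗[A] B →ₐ[A'] C, Function.Surjective c ∧
        ∀ q : PrimeSpectrum (A' ⊗[A] B), RingHom.ker c.toRingHom ≤ q.asIdeal := by
  classical
  obtain ⟨P, hP, E, hE, hA, n, τ, hsep, hcov, hpts⟩ := exists_pieces (A := A) (B := B)
  haveI := hP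
  letI := Fintype.ofFinite P
  let ev : ∀ p, Fin (n p) → ((∀ q, E q) ⊗[A] B →ₐ[A] E p) := fun p i =>
    Algebra.TensorProduct.lift (Pi.evalAlgHom A E p) (τ p i) fun _ _ => mul_comm _ _
  have hev : ∀ p i a b, ev p i (a ⊗ₜ[A] b) = a p * τ p i b := fun p i a b =>
    Algebra.TensorProduct.lift_tmul _ _ _ _ _
  let e : (∀ p, E p) ⊗[A] B →ₐ[∀ p, E p] (∀ p, Fin (n p) → E p) :=
    { toRingHom := RingHom.pi fun p => RingHom.pi fun i => (ev p i).toRingHom
      commutes' := fun a => funext fun p => funext fun i => by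
        show ev p i (a ⊗ₜ[A] (1 : B)) = _
        rw [hev, map_one, mul_one]
        rfl }
  have he : ∀ a b p i, e (a ⊗ₜ[A] b) p i = a p * τ p i b := fun a b p i => hev p i a b
  refine ⟨∀ p, E p, inferInstance, inferInstance, ∀ p, Fin (n p) → E p, inferInstance,
    inferInstance, ?_, ?_, ?_, e, ?_, ?_⟩
  · intro x
    obtain ⟨p, s, hs⟩ := hcov x
    exact ⟨PrimeSpectrum.comap (Pi.evalRingHom E p) s, by rw [← hs]; rfl⟩
  · refine ⟨⟨Finset.univ.image (fun x : Σ p, Fin (n p) => Pi.single x.1 (Pi.single x.2 1)), ?_⟩⟩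
    rw [eq_top_iff]
    intro f _
    have : f = ∑ x : Σ p, Fin (n p), (Pi.single x.1 (f x.1 x.2) : ∀ p, E p) •
        (Pi.single x.1 (Pi.single x.2 1) : ∀ p, Fin (n p) → E p) := by
      funext p i
      simp only [Finset.sum_apply]
      rw [Finset.sum_eq_single ⟨p, i⟩]
      · simp
      · rintro ⟨p', i'⟩ _ hne
        rcases eq_or_ne p' p with rfl | hp
        · have : i ≠ i' := fun e => hne (by rw [e])
          simp [Pi.single_eq_of_ne this]
        · simp [Pi.single_eq_of_ne hp.symm]
      · simp
    rw [this]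
    exact Submodule.sum_mem _ fun x _ => Submodule.smul_mem _ _
      (Submodule.subset_span (Finset.mem_image_of_mem _ (Finset.mem_univ x)))
  · letI : ∀ p, Algebra (∀ p, E p) (E p) := fun p => (Pi.evalRingHom E p).toAlgebra
    haveI : ∀ p, IsLocalization.Away (Pi.single p 1 : ∀ p, E p) (E p) := fun p =>
      IsLocalization.away_of_isIdempotentElem_of_mul
        (show IsIdempotentElem (Pi.single p 1 : ∀ p, E p) by
          show _ * _ = _
          rw [← Pi.single_mul, one_mul])
        (fun x y => by
          show x p = y p ↔ _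
          constructor
          · intro h
            funext q
            rcases eq_or_ne q p with rfl | hq <;> simp [*]
          · intro h
            simpa using congrFun h p)
        (fun e => ⟨Pi.single p e, Pi.single_eq_same p e⟩)
    have h1 : ∀ p, Algebra.Etale (∀ p, E p) (E p) := fun p =>
      Algebra.Etale.of_isLocalizationAway (Pi.single p 1)
    letI : ∀ p, Algebra (∀ p, E p) (Fin (n p) → E p) := fun p =>
      Pi.algebra _ _
    have h2 : ∀ p, Algebra.Etale (∀ p, E p) (Fin (n p) → E p) := fun p => by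
      haveI := h1 p
      infer_instance
    haveI := h2
    haveI : @Algebra.Etale (∀ p, E p) (∀ p, Fin (n p) → E p) _ _ (Pi.algebra _ _) :=
      { formallyEtale := inferInstance, finitePresentation := inferInstance }
    convert this using 1
    exact Algebra.algebra_ext _ _ fun _ => rfl
  · intro f
    choose z hz using fun p => surjective_sections (τ p) (hsep p) (f p)
    let up : ∀ p, E p →ₗ[A] (∀ q, E q) := fun p => LinearMap.single A E p
    refine ⟨∑ p, LinearMap.rTensor B (up p) (z p), funext fun p => funext fun i => ?_⟩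
    have key : ∀ (q : P) (w : E q ⊗[A] B), e (LinearMap.rTensor B (up q) w) p i =
        if h : q = p then (Algebra.TensorProduct.lift (AlgHom.id (E q) (E q)) (τ q (h ▸ i))
          (fun _ _ => mul_comm _ _) w |> fun v => (h ▸ v : E p)) else 0 := by
      intro q w
      induction w with
      | zero => split_ifs with h <;> [subst h; skip] <;> simp
      | tmul a b =>
        rw [LinearMap.rTensor_tmul, he]
        split_ifs with h
        · subst h
          simp [up, Algebra.TensorProduct.lift_tmul (AlgHom.id (E q) (E q)) (τ q i)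
            (fun _ _ => mul_comm _ _) a b]
        · simp [up, Pi.single_eq_of_ne (Ne.symm h)]
      | add a b ha hb =>
        rw [map_add, map_add, Pi.add_apply, Pi.add_apply, ha, hb]
        split_ifs with h
        · subst h; simp
        · simp
    rw [map_sum, Finset.sum_apply, Finset.sum_apply, Finset.sum_eq_single p]
    · rw [key, dif_pos rfl]
      exact congrFun (hz p) i
    · intro q _ hq
      rw [key, dif_neg hq]
    · simp
  · intro q z hz
    let K := q.asIdeal.ResidueField
    let Φ : (∀ p, E p) ⊗[A] B →ₐ[A] K := IsScalarTower.toAlgHom A _ _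
    let φ : (∀ p, E p) →ₐ[A] K := Φ.comp (Algebra.TensorProduct.includeLeft (S := A))
    let y : B →ₐ[A] K := Φ.comp Algebra.TensorProduct.includeRight
    obtain ⟨p, hp⟩ : ∃ p, φ (Pi.single p 1) ≠ 0 := by
      by_contra hc
      push Not at hc
      have : φ 1 = 0 := by
        rw [show (1 : ∀ p, E p) = ∑ p, Pi.single p 1 from (Finset.univ_sum_single 1).symm, map_sum]
        exact Finset.sum_eq_zero fun p _ => hc p
      exact one_ne_zero ((map_one φ).symm.trans this)
    have hp1 : φ (Pi.single p 1) = 1 := by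
      have h2 : φ (Pi.single p 1) * φ (Pi.single p 1) = φ (Pi.single p 1) := by
        rw [← map_mul, ← Pi.single_mul, one_mul]
      exact (mul_eq_left₀ hp).1 h2
    let φp : E p →ₐ[A] K :=
      AlgHom.ofLinearMap (φ.toLinearMap.comp (LinearMap.single A E p)) hp1 fun a b => by
        show φ (Pi.single p (a * b)) = φ (Pi.single p a) * φ (Pi.single p b)
        rw [← map_mul, ← Pi.single_mul]
    have hφp : ∀ a, φp (a p) = φ a := fun a => by
      show φ (Pi.single p (a p)) = φ a
      rw [show (Pi.single p (a p) : ∀ q, E q) = Pi.single p 1 * a by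
        funext q; rcases eq_or_ne q p with rfl | h <;> simp [*], map_mul, hp1, one_mul]
    obtain ⟨i, hi⟩ := hpts p K φp y
    have key : ∀ w, Φ w = φp (e w p i) := by
      intro w
      induction w with
      | zero => simp
      | tmul a b =>
        rw [he, map_mul, hφp, ← AlgHom.comp_apply φp, hi]
        show Φ (a ⊗ₜ[A] b) = Φ (a ⊗ₜ[A] 1) * Φ (1 ⊗ₜ[A] b)
        rw [← map_mul, Algebra.TensorProduct.tmul_mul_tmul, mul_one, one_mul]
      | add a b ha hb => simp only [map_add, Pi.add_apply, ha, hb]
    refine Ideal.algebraMap_residueField_eq_zero.1 ?_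
    show Φ z = 0
    rw [key, show e z = 0 from hz]
    simp

end Groth.L06.SplitQF
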