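import Mathlib.RingTheory.FinitePresentation
import Mathlib.RingTheory.QuasiFinite.Basic
import Mathlib.RingTheory.Spectrum.Prime.Chevalley
import Mathlib.RingTheory.Spectrum.Prime.ConstructibleSet
import Mathlib.RingTheory.Artinian.Module
import Mathlib.RingTheory.Localization.Away.Basic
import Mathlib.RingTheory.Localization.Away.AdjoinRoot

/-!
Tuples of distinct field-valued points of an algebra, and their boundedness for quasi-finite
algebras.
-/

set_option autoImplicit false

open TensorProduct

set_option linter.style.haveILetI false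

namespace Groth.L06.SplitQF

universe u

variable (A B : Type u) [CommRing A] [CommRing B] [Algebra A B]

/-- The set of primes over which `B` has at least `n` distinct points in some field. -/
def manyPts (n : ℕ) : Set (PrimeSpectrum A) :=
  {x | ∃ (K : Type u) (_ : Field K) (_ : Algebra A K) (y : Fin n → (B →ₐ[A] K)),
    Function.Injective y ∧ RingHom.ker (algebraMap A K) = x.asIdeal}

/-- A family of algebras parametrising `n`-tuples of pointwise distinct points. -/
structure Tuples (n : ℕ) where
  ι : Type u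
  [fin : Finite ι]
  R : ι → Type u
  [cr : ∀ l, CommRing (R l)]
  [alg : ∀ l, Algebra A (R l)]
  fp : ∀ l, Algebra.FinitePresentation A (R l)
  σ : ∀ l, Fin n → (B →ₐ[A] R l)
  sep : ∀ l i j, i ≠ j → Ideal.span (Set.range fun b => σ l i b - σ l j b) = ⊤
  univ : ∀ (K : Type u) [Field K] [Algebra A K] (y : Fin n → (B →ₐ[A] K)), Function.Injective y →
    ∃ (l : ι) (φ : R l →ₐ[A] K), ∀ i, φ.comp (σ l i) = y i

attribute [instance] Tuples.fin Tuples.cr Tuples.alg Tuples.fp

variable {A B}

theorem exists_tuples [Algebra.FinitePresentation A B] :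
    ∀ n, Nonempty (Tuples A B n)
  | 0 => ⟨{ ι := PUnit, R := fun _ => A, fp := fun _ => inferInstance
            σ := fun _ i => i.elim0
            sep := fun _ i => i.elim0
            univ := fun K _ _ y _ => ⟨PUnit.unit, Algebra.ofId A K, fun i => i.elim0⟩ }⟩
  | n + 1 => by
    classical
    obtain ⟨T⟩ := exists_tuples n
    obtain ⟨s, hs⟩ := (inferInstance : Algebra.FiniteType A B).1
    let g : ∀ p : T.ι × (Fin n → s), T.R p.1 ⊗[A] B := fun p =>
      ∏ i, (Algebra.TensorProduct.includeRight (p.2 i : B) -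
        Algebra.TensorProduct.includeLeft (S := A) (T.σ p.1 i (p.2 i)))
    let R' : T.ι × (Fin n → s) → Type u := fun p => Localization.Away (g p)
    have hfp : ∀ p, Algebra.FinitePresentation A (R' p) := fun p =>
      haveI : Algebra.FinitePresentation (T.R p.1 ⊗[A] B) (R' p) :=
        IsLocalization.Away.finitePresentation (g p)
      haveI : Algebra.FinitePresentation A (T.R p.1 ⊗[A] B) :=
        Algebra.FinitePresentation.trans A (T.R p.1) _
      Algebra.FinitePresentation.trans A (T.R p.1 ⊗[A] B) _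
    let ψ : ∀ p, T.R p.1 ⊗[A] B →ₐ[A] R' p := fun p => IsScalarTower.toAlgHom A _ _
    let σ' : ∀ p, Fin (n + 1) → (B →ₐ[A] R' p) := fun p =>
      Fin.cons ((ψ p).comp Algebra.TensorProduct.includeRight)
        (fun i => ((ψ p).comp (Algebra.TensorProduct.includeLeft (S := A))).comp (T.σ p.1 i))
    refine ⟨{ ι := T.ι × (Fin n → s), R := R', fp := hfp, σ := σ', sep := ?_, univ := ?_ }⟩
    · intro p
      have h0 : ∀ i : Fin n, Ideal.span (Set.range fun b => σ' p 0 b - σ' p i.succ b) = ⊤ := by
        intro i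
        refine Ideal.eq_top_of_isUnit_mem _ (Ideal.subset_span ⟨(p.2 i : B), rfl⟩) ?_
        have hu : IsUnit (ψ p (g p)) := IsLocalization.Away.algebraMap_isUnit (g p)
        simp only [g, map_prod] at hu
        have := isUnit_of_dvd_unit (Finset.dvd_prod_of_mem _ (Finset.mem_univ i)) hu
        simpa [σ', map_sub] using this
      have hsymm : ∀ a c, Ideal.span (Set.range fun b => σ' p a b - σ' p c b) = ⊤ →
          Ideal.span (Set.range fun b => σ' p c b - σ' p a b) = ⊤ := by
        intro a c h
        rw [eq_top_iff, ← h, Ideal.span_le]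
        rintro _ ⟨b, rfl⟩
        exact Ideal.subset_span ⟨-b, by simp [map_neg]; ring⟩
      intro i j hij
      induction i using Fin.cases with
      | zero =>
        induction j using Fin.cases with
        | zero => exact absurd rfl hij
        | succ j => exact h0 j
      | succ i =>
        induction j using Fin.cases with
        | zero => exact hsymm _ _ (h0 i)
        | succ j =>
          have := congrArg (Ideal.map ((ψ p).comp (Algebra.TensorProduct.includeLeft (S := A))))
            (T.sep p.1 i j fun e => hij (congrArg Fin.succ e))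
          rw [Ideal.map_span, Ideal.map_top, ← Set.range_comp] at this
          refine Eq.trans ?_ this
          congr 2
          funext b
          simp [σ', map_sub]
    · intro K _ _ y hy
      obtain ⟨l, φ, hφ⟩ := T.univ K (fun i => y i.succ) fun a c h =>
        Fin.succ_injective _ (hy h)
      have hsep : ∀ i : Fin n, ∃ b : s, y 0 b ≠ y i.succ b := by
        intro i
        by_contra hc
        push Not at hc
        refine (Fin.succ_ne_zero i).symm (hy (AlgHom.ext_of_adjoin_eq_top hs ?_))
        exact fun b hb => hc ⟨b, hb⟩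
      choose c hc using hsep
      let Φ : T.R l ⊗[A] B →ₐ[A] K := Algebra.TensorProduct.lift φ (y 0) (fun _ _ => mul_comm _ _)
      have hΦ : ∀ b, Φ (Algebra.TensorProduct.includeRight b) = y 0 b := fun b =>
        (Algebra.TensorProduct.lift_tmul _ _ _ _ _).trans (by rw [map_one, one_mul])
      have hΦ' : ∀ r, Φ (Algebra.TensorProduct.includeLeft (S := A) r) = φ r := fun r =>
        (Algebra.TensorProduct.lift_tmul _ _ _ _ _).trans (by rw [map_one, mul_one])
      have hu : IsUnit (Φ (g (l, c))) := by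
        simp only [g, map_prod, map_sub, hΦ, hΦ', isUnit_iff_ne_zero, Finset.prod_ne_zero_iff]
        intro i _
        rw [show φ (T.σ l i (c i : B)) = y i.succ (c i : B) from AlgHom.congr_fun (hφ i) _]
        exact sub_ne_zero.2 (hc i)
      refine ⟨(l, c), IsLocalization.liftAlgHom (M := Submonoid.powers (g (l, c))) (f := Φ)
        (by rintro ⟨_, m, rfl⟩; simpa using hu.pow m), fun i => ?_⟩
      ext b
      induction i using Fin.cases with
      | zero =>
        simp [σ', ψ]
        exact hΦ b
      | succ i =>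
        simp [σ', ψ]
        exact (hΦ' _).trans (AlgHom.congr_fun (hφ i) b)

lemma manyPts_eq {n : ℕ} (T : Tuples A B n) :
    manyPts A B n = ⋃ l, Set.range (PrimeSpectrum.comap (algebraMap A (T.R l))) := by
  ext x
  simp only [manyPts, Set.mem_ofPred_eq, Set.mem_iUnion, Set.mem_range]
  constructor
  · rintro ⟨K, _, _, y, hy, hx⟩
    obtain ⟨l, φ, -⟩ := T.univ K y hy
    refine ⟨l, ⟨RingHom.ker φ.toRingHom, RingHom.ker_isPrime _⟩, PrimeSpectrum.ext ?_⟩
    rw [← hx, PrimeSpectrum.comap_asIdeal]
    show Ideal.comap (algebraMap A (T.R l)) (RingHom.ker φ.toRingHom) = _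
    rw [RingHom.comap_ker, AlgHom.toRingHom_eq_coe, AlgHom.comp_algebraMap]
  · rintro ⟨l, q, rfl⟩
    let φ : T.R l →ₐ[A] q.asIdeal.ResidueField := IsScalarTower.toAlgHom A _ _
    refine ⟨q.asIdeal.ResidueField, inferInstance, inferInstance, fun i => φ.comp (T.σ l i), ?_, ?_⟩
    · intro i j hij
      by_contra hne
      have h1 : Ideal.span (Set.range fun b => T.σ l i b - T.σ l j b) ≤ q.asIdeal := by
        rw [Ideal.span_le]
        rintro _ ⟨b, rfl⟩
        have h2 : φ (T.σ l i b - T.σ l j b) = 0 := by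
          rw [map_sub, sub_eq_zero]; exact AlgHom.congr_fun hij b
        exact Ideal.algebraMap_residueField_eq_zero.1 h2
      rw [T.sep l i j hne, top_le_iff] at h1
      exact q.2.ne_top h1
    · rw [IsScalarTower.algebraMap_eq A (T.R l) q.asIdeal.ResidueField, ← RingHom.comap_ker,
        Ideal.ker_algebraMap_residueField]
      rfl

lemma isConstructible_manyPts [Algebra.FinitePresentation A B] (n : ℕ) :
    Topology.IsConstructible (manyPts A B n) := by
  obtain ⟨T⟩ := exists_tuples (A := A) (B := B) n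
  rw [manyPts_eq T]
  exact Topology.IsConstructible.iUnion fun l =>
    PrimeSpectrum.isConstructible_range_comap (RingHom.finitePresentation_algebraMap.2 (T.fp l))

lemma manyPts_succ_subset (n : ℕ) : manyPts A B (n + 1) ⊆ manyPts A B n := by
  rintro x ⟨K, i₁, i₂, y, hy, hx⟩
  exact ⟨K, i₁, i₂, fun i => y i.castSucc, hy.comp (Fin.castSucc_injective n), hx⟩

lemma finite_algHom [Algebra.QuasiFinite A B] (K : Type u) [Field K] [Algebra A K] :
    Finite (B →ₐ[A] K) := by
  haveI : Module.Finite K (K ⊗[A] B) := Module.Finite.of_quasiFinite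
  haveI : IsArtinianRing (K ⊗[A] B) := IsArtinianRing.of_finite K _
  let Y : (B →ₐ[A] K) → (K ⊗[A] B →ₐ[K] K) := fun y =>
    Algebra.TensorProduct.lift (AlgHom.id K K) y (fun _ _ => mul_comm _ _)
  refine Finite.of_injective (fun y => (⟨RingHom.ker (Y y).toRingHom, RingHom.ker_isPrime _⟩ :
    PrimeSpectrum (K ⊗[A] B))) fun y y' h => ?_
  ext b
  have hY : ∀ (v : B →ₐ[A] K) (a : K) (c : B), Y v (a ⊗ₜ[A] c) = a * v c := fun v a c =>
    Algebra.TensorProduct.lift_tmul _ _ _ _ _
  have hmem : (1 : K) ⊗ₜ[A] b - (y b) ⊗ₜ[A] (1 : B) ∈ RingHom.ker (Y y).toRingHom := by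
    rw [RingHom.mem_ker]
    show Y y (_ - _) = 0
    rw [map_sub, hY, hY, one_mul, map_one, mul_one, sub_self]
  have h' : RingHom.ker (Y y).toRingHom = RingHom.ker (Y y').toRingHom :=
    congrArg PrimeSpectrum.asIdeal h
  rw [h', RingHom.mem_ker] at hmem
  have : Y y' ((1 : K) ⊗ₜ[A] b - (y b) ⊗ₜ[A] (1 : B)) = 0 := hmem
  rw [map_sub, hY, hY, one_mul, map_one, mul_one, sub_eq_zero] at this
  exact this.symm

theorem exists_bound [Algebra.FinitePresentation A B] [Algebra.QuasiFinite A B] :
    ∃ N, manyPts A B N = ∅ := by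
  by_contra h
  push Not at h
  choose x hx using fun n => h (n + 1)
  choose K hK hA y hy _ using hx
  obtain ⟨s, hs⟩ := (inferInstance : Algebra.FiniteType A B).1
  classical
  let J : Ideal (∀ n, K n) :=
    { carrier := {f | ∃ N, ∀ n ≥ N, f n = 0}
      zero_mem' := ⟨0, fun _ _ => rfl⟩
      add_mem' := fun {a b} ⟨N, hN⟩ ⟨N', hN'⟩ =>
        ⟨max N N', fun n hn => by simp [hN n (le_of_max_le_left hn), hN' n (le_of_max_le_right hn)]⟩
      smul_mem' := fun c a ⟨N, hN⟩ => ⟨N, fun n hn => by simp [hN n hn]⟩ }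
  have hJ : J ≠ ⊤ := by
    intro hJ
    obtain ⟨N, hN⟩ : (1 : ∀ n, K n) ∈ J := hJ ▸ Submodule.mem_top
    exact one_ne_zero (hN N le_rfl)
  obtain ⟨m, hm, hle⟩ := Ideal.exists_le_maximal J hJ
  let _ : Field ((∀ n, K n) ⧸ m) := Ideal.Quotient.field m
  let z : ℕ → (B →ₐ[A] ∀ n, K n) := fun j =>
    AlgHom.pi fun n => y n ⟨min j n, Nat.lt_succ_of_le (min_le_right j n)⟩
  let w : ℕ → (B →ₐ[A] (∀ n, K n) ⧸ m) := fun j => (Ideal.Quotient.mkₐ A m).comp (z j)
  haveI := finite_algHom (A := A) (B := B) ((∀ n, K n) ⧸ m)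
  refine not_injective_infinite_finite w fun i j hij => ?_
  by_contra hne
  let d : B → ∀ n, K n := fun b => z i b - z j b
  let c : B → ∀ n, K n := fun b => d b * fun n => (d b n)⁻¹
  have hc : ∀ b, c b ∈ m := fun b => m.mul_mem_right _ (by
    rw [← Ideal.Quotient.eq_zero_iff_mem, map_sub, sub_eq_zero]
    exact AlgHom.congr_fun hij b)
  have hone : Ideal.Quotient.mk m (∏ b ∈ s, (1 - c b)) = 1 := by
    rw [map_prod]
    refine Finset.prod_eq_one fun b _ => ?_
    rw [map_sub, map_one, Ideal.Quotient.eq_zero_iff_mem.2 (hc b), sub_zero]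
  have hzero : ∏ b ∈ s, (1 - c b) ∈ J := by
    refine ⟨max i j, fun n hn => ?_⟩
    have hi : i ≤ n := le_of_max_le_left hn
    have hj : j ≤ n := le_of_max_le_right hn
    have : ∃ b ∈ s, d b n ≠ 0 := by
      by_contra hc'
      push Not at hc'
      refine hne ?_
      have e : y n ⟨min i n, Nat.lt_succ_of_le (min_le_right i n)⟩ =
          y n ⟨min j n, Nat.lt_succ_of_le (min_le_right j n)⟩ :=
        AlgHom.ext_of_adjoin_eq_top hs fun b hb => sub_eq_zero.1 (hc' b hb)
      simpa [min_eq_left hi, min_eq_left hj] using hy n e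
    obtain ⟨b, hb, hdb⟩ := this
    rw [Finset.prod_apply]
    exact Finset.prod_eq_zero hb (by simp [c, mul_inv_cancel₀ hdb])
  rw [Ideal.Quotient.eq_zero_iff_mem.2 (hle hzero)] at hone
  exact zero_ne_one hone

end Groth.L06.SplitQF
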